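/-
The data of a Sylow collector on the points of a table, with the members listed by increasing images of the bases.
-/
import Cfsg.Agent.Lib.PermChain.Schur

set_option autoImplicit false

namespace CfsgLib.McLMult

open Equiv CfsgPC CfsgLib.StemSylow

variable {n : ℕ} {ls : List Level} {gens : List ℕ}

/-- The images of the bases under a word, as one number. -/
def key (bases gc : List ℕ) (w : List ℕ) : ℕ := bases.foldl (fun a b => a * 512 + apW gc w b) 0

/-- Increasing keys. -/
def incrKeys (bases gc : List ℕ) : ℕ → List (List ℕ) → Bool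
  | _, [] => true
  | lo, w :: L => Nat.blt lo (key bases gc w) && w.all (fun a => Nat.blt a gc.length) &&
      incrKeys bases gc (key bases gc w) L

theorem incrKeys_spec {bases gc : List ℕ} : ∀ {lo : ℕ} {L : List (List ℕ)}, incrKeys bases gc lo L = true →
    (∀ w ∈ L, lo < key bases gc w ∧ ∀ a ∈ w, a < gc.length) ∧ (L.map (key bases gc)).Nodup := by
  intro lo L
  induction L generalizing lo with
  | nil => intro _; simp
  | cons w L ih =>
    intro h
    simp only [incrKeys, Bool.and_eq_true, List.all_eq_true, Nat.blt_eq] at h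
    obtain ⟨⟨h1, h2⟩, h3⟩ := h
    obtain ⟨i1, i2⟩ := ih h3
    refine ⟨fun x hx => ?_, List.nodup_cons.mpr ⟨fun hm => ?_, i2⟩⟩
    · rcases List.mem_cons.mp hx with rfl | hx
      · exact ⟨h1, h2⟩
      · exact ⟨h1.trans (i1 x hx).1, (i1 x hx).2⟩
    · obtain ⟨x, hx, e⟩ := List.mem_map.mp hm
      exact absurd (i1 x hx).1 (by rw [e]; exact lt_irrefl _)

/-- The elements behind checked data. -/
theorem exists_elems (hn : n ≤ 512) (hT : TableOK n ls gens) (hv : Valid n gens) (hp : prodSet n ls = genG n gens)
    {gc tc : List (ℕ × ℕ)} {facts : List (ℕ × List ℕ × List ℕ)} {words : List (List ℕ)} {bases : List ℕ} {lo : ℕ}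
    (hmem : memOK n ls (gc ++ tc) = true) (hone : (tc.map Prod.fst).head? = some (idk n))
    (hfacts : factsB ls facts (gc.map Prod.fst) (tc.map Prod.fst) = true) (hb : ∀ b ∈ bases, b < n)
    (hkeys : incrKeys bases (gc.map Prod.fst) lo words = true) :
    ∃ g t : ℕ → ↥(genG n gens), t 0 = 1 ∧
      (∀ m < facts.length, t (facts.getD m (0, [], [])).1 * Collect.ev g (facts.getD m (0, [], [])).2.1 *
        (t (facts.getD m (0, [], [])).1)⁻¹ = Collect.ev g (facts.getD m (0, [], [])).2.2) ∧
      words.length ≤ Nat.card (Subgroup.closure (g '' {k | k < gc.length})) := by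
  classical
  have hex : ∀ c ∈ gc ++ tc, ∃ g : ↥(genG n gens), Rep n c.1 (g : Perm (Fin n)) := fun c hc => by
    have hh := List.all_eq_true.mp hmem c hc
    rw [Bool.and_eq_true] at hh
    exact ⟨⟨_, mem_of_sift hn hT hv _ _ (decP_rep hh.1) hh.2⟩, decP_rep hh.1⟩
  have hsel : ∀ l : List (ℕ × ℕ), (∀ c ∈ l, c ∈ gc ++ tc) →
      ∀ k, ∃ g : ↥(genG n gens), k < l.length → Rep n ((l.map Prod.fst).getD k 0) (g : Perm (Fin n)) := by
    intro l hl k
    by_cases hk : k < l.length
    · obtain ⟨g, hg⟩ := hex _ (hl _ (List.getElem_mem hk))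
      exact ⟨g, fun _ => by rwa [List.getD_eq_getElem _ _ (by simpa using hk), List.getElem_map]⟩
    · exact ⟨1, fun hk' => absurd hk' hk⟩
  choose g hg using hsel gc fun c hc => List.mem_append_left _ hc
  choose t ht using hsel tc fun c hc => List.mem_append_right _ hc
  have ht0 : t 0 = 1 := by
    cases htc : tc with
    | nil => rw [htc] at hone; simp at hone
    | cons a l =>
      rw [htc] at hone
      simp only [List.map_cons, List.head?_cons, Option.some.injEq] at hone
      have := ht 0 (by rw [htc]; simp)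
      rw [htc, List.map_cons, List.getD_cons_zero, hone] at this
      exact Subtype.ext (this.unique (rep_id hn))
  have hev : ∀ w : List ℕ, (∀ a ∈ w, a < gc.length) → ∀ i : Fin n,
      apW (gc.map Prod.fst) w i = (((Collect.ev g w : ↥(genG n gens)) : Perm (Fin n)) i : ℕ) := by
    intro w hw i
    rw [rep_apW (g := fun a => (g a : Perm (Fin n))) w (fun a ha => hg a (hw a ha)) i]
    simp only [Collect.ev, SubmonoidClass.coe_list_prod, List.map_map]
    rfl
  refine ⟨g, t, ht0, fun m hm => ?_, ?_⟩
  · have hf := List.all_eq_true.mp hfacts _ (List.getElem_mem hm)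
    rw [List.getD_eq_getElem _ _ hm]
    simp only [Bool.and_eq_true, Nat.blt_eq, List.all_eq_true, List.length_map] at hf
    obtain ⟨⟨⟨hlt, hq⟩, hr⟩, hbs⟩ := hf
    rw [mul_inv_eq_iff_eq_mul]
    refine Subtype.ext (eq_of_bases hn hT hv hp (Subtype.coe_prop _) (Subtype.coe_prop _) fun j hj b hbj => Fin.ext ?_)
    have hbmem : (b : ℕ) ∈ ls.map Level.base := by
      rw [hbj, List.getD_eq_getElem _ _ (by simpa using hj)]; exact List.getElem_mem _
    have := Nat.eq_of_beq_eq_true (hbs _ hbmem)
    rw [hev _ hq b, ht _ hlt, ht _ hlt b, hev _ hr] at this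
    simpa [Perm.mul_apply] using this
  · obtain ⟨h1, h2⟩ := incrKeys_spec hkeys
    simp only [List.length_map] at h1
    let f : Fin words.length → Subgroup.closure (g '' {k | k < gc.length}) := fun i =>
      ⟨Collect.ev g (words.get i), Subgroup.list_prod_mem _ fun x hx => by
        obtain ⟨a, ha, rfl⟩ := List.mem_map.mp hx
        exact Subgroup.subset_closure ⟨a, (h1 _ (words.get_mem i)).2 a ha, rfl⟩⟩
    have hf : Function.Injective f := by
      intro i j hij
      have e : Collect.ev g (words.get i) = Collect.ev g (words.get j) := congrArg Subtype.val hij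
      have hpt : ∀ b ∈ bases, apW (gc.map Prod.fst) (words.get i) b = apW (gc.map Prod.fst) (words.get j) b :=
        fun b hbm => by
          rw [hev _ (h1 _ (words.get_mem i)).2 ⟨b, hb b hbm⟩, hev _ (h1 _ (words.get_mem j)).2 ⟨b, hb b hbm⟩, e]
      have hk : key bases (gc.map Prod.fst) (words.get i) = key bases (gc.map Prod.fst) (words.get j) :=
        List.foldl_ext _ _ 0 fun a b hbm => by rw [hpt b hbm]
      have := (List.nodup_iff_injective_get.mp h2) (a₁ := ⟨i, by simp⟩) (a₂ := ⟨j, by simp⟩) (by simpa using hk)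
      exact Fin.ext (by simpa using congrArg Fin.val this)
    simpa using Nat.card_le_card_of_injective f hf

end CfsgLib.McLMult
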