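/-
Kernel checks for the multiplier of McL.
-/
import Cfsg.Agent.Lib.McLMult.Sylow
import Cfsg.Agent.Lib.McLMult.SylowData
import Cfsg.Agent.Lib.McLMult.TransferData
import Cfsg.Agent.Lib.McLPoint.Data
import Cfsg.Agent.Lib.Leech.McLPermData
import Cfsg.Agent.Lib.U43Mult.CoverData
import Cfsg.Agent.Lib.U43Mult.GroupData

set_option autoImplicit false
set_option maxRecDepth 200000

namespace CfsgLib.McLMult

open CfsgPC CfsgLib.StemSylow CfsgLeech.Models

/-- The bases of the table. -/
def mBases : List ℕ := [12, 117, 65, 141, 210]

theorem bases_ok : (mclChain.map Level.base) = mBases := by decide +kernel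

theorem certTwo_ok : certTwo.check = true := by decide +kernel

theorem certThree_ok : certThree.check = true := by decide +kernel

theorem certFive_ok : certFive.check = true := by decide +kernel

theorem memTwo : memOK 275 mclChain (gcTwo ++ tcTwo) = true ∧ (tcTwo.map Prod.fst).head? = some (idk 275) ∧
    factsB mclChain certTwo.facts (gcTwo.map Prod.fst) (tcTwo.map Prod.fst) = true := by decide +kernel

theorem memThree : memOK 275 mclChain (gcThree ++ tcThree) = true ∧ (tcThree.map Prod.fst).head? = some (idk 275) ∧
    factsB mclChain baseThree.facts (gcThree.map Prod.fst) (tcThree.map Prod.fst) = true := by decide +kernel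

theorem memFive : memOK 275 mclChain (gcFive ++ tcFive) = true ∧ (tcFive.map Prod.fst).head? = some (idk 275) ∧
    factsB mclChain certFive.facts (gcFive.map Prod.fst) (tcFive.map Prod.fst) = true := by decide +kernel

theorem keysTwo : incrKeys mBases (gcTwo.map Prod.fst) 0 wordsTwo = true ∧ wordsTwo.length = 128 ∧
    gcTwo.length = 7 ∧ certTwo.n = 7 := by decide +kernel

theorem keysThree : incrKeys mBases (gcThree.map Prod.fst) 0 wordsThree = true ∧ wordsThree.length = 729 ∧
    gcThree.length = 6 ∧ baseThree.n = 6 := by decide +kernel

theorem keysFive : incrKeys mBases (gcFive.map Prod.fst) 0 wordsFive = true ∧ wordsFive.length = 125 ∧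
    gcFive.length = 3 ∧ certFive.n = 3 := by decide +kernel

theorem cyc_ok : cycCodes.map Prod.fst = [7, 11] ∧ (cycCodes.all fun d =>
    isPerm 275 d.2.1 d.2.2 && sift 275 mclChain d.2.1 &&
      (List.range 275).all (fun i => Nat.beq (apN d.2.1 d.1 i) i) &&
      mBases.any fun b => !Nat.beq (ap d.2.1 b) b) = true := by decide +kernel

/-- The check of the transversal between two entries. -/
def transOK (a b : ℕ) : Bool :=
  (List.range (b - a)).all fun d => isPerm 275 (trans.getD (a + d) (0, 0)).1 (trans.getD (a + d) (0, 0)).2 &&
    sift 275 mclChain (trans.getD (a + d) (0, 0)).1 && Nat.beq (ap (trans.getD (a + d) (0, 0)).1 0) (a + d)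

theorem trans0_ok : transOK 0 70 = true := by decide +kernel
theorem trans1_ok : transOK 70 140 = true := by decide +kernel
theorem trans2_ok : transOK 140 210 = true := by decide +kernel
theorem trans3_ok : transOK 210 275 = true := by decide +kernel

theorem pair_ok : isPerm 275 gCode.1 gCode.2 = true ∧ sift 275 mclChain gCode.1 = true ∧
    isPerm 275 hCode.1 hCode.2 = true ∧ sift 275 mclChain hCode.1 = true ∧
    (List.range 275).all (fun i => Nat.beq (ap gCode.1 (ap hCode.1 i)) (ap hCode.1 (ap gCode.1 i))) = true := by
  decide +kernel

/-- The codes of the two generators of the stabiliser. -/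
def ucs : List ℕ := McLPoint.lifts.map Prod.fst

/-- The components are the values of their words. -/
def compOK (c : ℕ) (ws : List (List ℕ)) (a b : ℕ) : Bool :=
  (List.range (b - a)).all fun d => (ws.getD (a + d) []).all (fun j => Nat.blt j 2) &&
    mBases.all fun p => Nat.beq (ap (trans.getD (ap c (a + d)) (0, 0)).2 (ap c (ap (trans.getD (a + d) (0, 0)).1 p)))
      (LabelCover.Data.runPts ucs (ws.getD (a + d) []) p)

theorem gComp0_ok : compOK gCode.1 gWords 0 140 = true := by decide +kernel
theorem gComp1_ok : compOK gCode.1 gWords 140 275 = true := by decide +kernel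
theorem hComp0_ok : compOK hCode.1 hWords 0 140 = true := by decide +kernel
theorem hComp1_ok : compOK hCode.1 hWords 140 275 = true := by decide +kernel

/-- The words of the two products at a point. -/
def wordA (x : ℕ) : List ℕ := hWords.getD x [] ++ gWords.getD (ap hCode.1 x) []

/-- The words of the two products at a point, in the other order. -/
def wordB (x : ℕ) : List ℕ := gWords.getD x [] ++ hWords.getD (ap gCode.1 x) []

/-- The label at a point. -/
def labAt (x : ℕ) : ℕ :=
  (U43Mult.coverA.run (wordA x) (0, 0)).2 + 2 * (U43Mult.coverA.run (wordB x) (0, 0)).2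

theorem labels_ne : ((List.range 275).map labAt).sum % 3 ≠ 0 := by decide +kernel

/-- The generators carry lines to lines as their codes on lines say. -/
theorem lines_move : ((List.range 2).all fun j => (List.range 280).all fun i => (McLPoint.lines.getD i []).all fun k =>
    (McLPoint.lines.getD (ap ((U43Mult.gens.map Prod.fst).getD j 0) i) []).contains (ap (ucs.getD j 0) k)) = true := by
  decide +kernel

end CfsgLib.McLMult
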