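/-
The stabiliser of a point in the group of 275 points, seen on the 280 lines.
-/
import Cfsg.Agent.Lib.McLMult.Checks
import Cfsg.Agent.Lib.McLPoint.Main

set_option autoImplicit false
set_option maxRecDepth 30000
set_option linter.unusedSectionVars false
set_option linter.style.haveILetI false

namespace CfsgLib.McLMult

open Equiv CfsgPC CfsgLeech.Models CfsgLib.StemSylow
open CfsgLib.U43Mult (SmallU small_valid small_table coverA coverA_ok)

attribute [local irreducible] mclPts mclWords mclCodes mclSlp mclChain trans gWords hWords gCode hCode coverA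
  U43Mult.gens U43Mult.chain McLPoint.lifts McLPoint.lines

/-- McL on the points. -/
abbrev M : Type := ↥(genG 275 mclRigid.gens)

theorem card_M : Nat.card M = 898128000 := mcl_model.2.1.card.trans mcl_size

theorem bases_lt : ∀ b ∈ mBases, b < 275 := by decide

/-- Members agreeing on the bases are equal. -/
theorem eq_of_mBases {p q : Perm (Fin 275)} (hp : p ∈ genG 275 mclRigid.gens) (hq : q ∈ genG 275 mclRigid.gens)
    (h : ∀ b : Fin 275, (b : ℕ) ∈ mBases → p b = q b) : p = q := by
  refine eq_of_bases (by norm_num) mcl_table mcl_model.1 mcl_model.2.1.eq hp hq fun j hj b hb => h b ?_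
  rw [← bases_ok, hb, List.getD_eq_getElem _ _ (by simpa using hj)]
  exact List.getElem_mem _

theorem trans_at (x : Fin 275) : isPerm 275 (trans.getD x (0, 0)).1 (trans.getD x (0, 0)).2 = true ∧
    sift 275 mclChain (trans.getD x (0, 0)).1 = true ∧ ap (trans.getD x (0, 0)).1 0 = x := by
  have key : ∀ a b, transOK a b = true → a ≤ (x : ℕ) → (x : ℕ) < b →
      isPerm 275 (trans.getD x (0, 0)).1 (trans.getD x (0, 0)).2 = true ∧
      sift 275 mclChain (trans.getD x (0, 0)).1 = true ∧ ap (trans.getD x (0, 0)).1 0 = x := fun a b h h1 h2 => by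
    have := List.all_eq_true.mp h ((x : ℕ) - a) (List.mem_range.mpr (by omega))
    simp only [Bool.and_eq_true, Nat.add_sub_cancel' h1] at this
    exact ⟨this.1.1, this.1.2, Nat.eq_of_beq_eq_true this.2⟩
  by_cases h1 : (x : ℕ) < 70
  · exact key _ _ trans0_ok (Nat.zero_le _) h1
  by_cases h2 : (x : ℕ) < 140
  · exact key _ _ trans1_ok (by omega) h2
  by_cases h3 : (x : ℕ) < 210
  · exact key _ _ trans2_ok (by omega) h3
  exact key _ _ trans3_ok (by omega) x.2

/-- The member of a checked code. -/
noncomputable def ofCode (c ci : ℕ) (hp : isPerm 275 c ci = true) (hs : sift 275 mclChain c = true) : M :=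
  ⟨decP 275 c, mem_of_sift (by norm_num) mcl_table mcl_model.1 _ _ (decP_rep hp) hs⟩

/-- The transversal. -/
noncomputable def tr (x : Fin 275) : M := ofCode _ _ (trans_at x).1 (trans_at x).2.1

theorem tr_spec (x : Fin 275) : tr x • (0 : Fin 275) = x :=
  Fin.ext ((decP_rep (trans_at x).1 0).symm.trans (trans_at x).2.2)

theorem card_stab : Nat.card (MulAction.stabilizer M (0 : Fin 275)) = 3265920 := by
  have h := (MulAction.stabilizer M (0 : Fin 275)).card_mul_index
  have hu : MulAction.orbit M (0 : Fin 275) = Set.univ := Set.eq_univ_of_forall fun x => ⟨tr x, tr_spec x⟩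
  rw [MulAction.index_stabilizer, card_M, hu, Set.ncard_univ, Nat.card_fin] at h
  omega

theorem lift_ok {j : ℕ} (hj : j < 2) : isPerm 275 (ucs.getD j 0) (McLPoint.lifts.getD j (0, 0)).2 = true ∧
    sift 275 mclChain (ucs.getD j 0) = true ∧ ap (ucs.getD j 0) 0 = 0 := by
  have h := List.all_eq_true.mp McLPoint.lifts_ok j (List.mem_range.mpr hj)
  simp only [Bool.and_eq_true, List.all_eq_true] at h
  have hl : j < McLPoint.lifts.length := by
    by_contra hn
    have h1 := h.1.1.1
    rw [List.getD_eq_default _ _ (not_lt.mp hn)] at h1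
    exact absurd h1 (by decide)
  have e : ucs.getD j 0 = (McLPoint.lifts.getD j (0, 0)).1 := by
    rw [ucs, List.getD_eq_getElem _ _ (by simpa using hl), List.getElem_map, List.getD_eq_getElem _ _ hl]
  rw [e]
  exact ⟨h.1.1.1, h.1.1.2, Nat.eq_of_beq_eq_true h.1.2⟩

/-- A generator of the stabiliser. -/
noncomputable def sgen (j : ℕ) : MulAction.stabilizer M (0 : Fin 275) :=
  if h : j < 2 then
    ⟨ofCode _ _ (lift_ok h).1 (lift_ok h).2.1,
      Fin.ext ((decP_rep (lift_ok h).1 0).symm.trans (lift_ok h).2.2)⟩
  else 1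

/-- The value of a word, first letter first. -/
noncomputable def sval : List ℕ → MulAction.stabilizer M (0 : Fin 275)
  | [] => 1
  | j :: w => sval w * sgen j

theorem sgen_ap {j : ℕ} (hj : j < 2) (i : Fin 275) :
    (((sgen j : M) : Perm (Fin 275)) i : ℕ) = ap (ucs.getD j 0) i := by
  rw [sgen, dif_pos hj]
  exact (decP_rep (lift_ok hj).1 i).symm

theorem sval_ap : ∀ (w : List ℕ), (∀ j ∈ w, j < 2) → ∀ i : Fin 275,
    (((sval w : M) : Perm (Fin 275)) i : ℕ) = LabelCover.Data.runPts ucs w i := by
  intro w
  induction w with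
  | nil => intro _ i; rfl
  | cons j w ih =>
    intro hw i
    rw [LabelCover.Data.runPts, ← sgen_ap (hw j (List.mem_cons_self ..)) i,
      ← ih (fun x hx => hw x (List.mem_cons_of_mem _ hx))]
    rfl

/-- The covering group of the stabiliser. -/
abbrev A : Type := LabelCover.Cover coverA_ok small_valid

/-- A member of the stabiliser carries the lines as a member of the group of lines. -/
def Compat (p : Perm (Fin 275)) (q : Perm (Fin 280)) : Prop :=
  ∀ i : Fin 280, (McLPoint.lineF i).image p = McLPoint.lineF (q i)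

theorem compat_unique {p : Perm (Fin 275)} {q q' : Perm (Fin 280)} (h : Compat p q) (h' : Compat p q') : q = q' := by
  refine Equiv.ext fun i => McLPoint.lineX_injective ?_
  rw [McLPoint.lineX, McLPoint.lineX, ← h i, ← h' i]

theorem compat_gen {j : ℕ} (hj : j < 2) : Compat ((sgen j : M) : Perm (Fin 275))
    ((LabelCover.proj coverA_ok small_valid (LabelCover.gel coverA_ok small_valid j) : SmallU) : Perm (Fin 280)) := by
  intro i
  have hrep := LabelCover.gen_rep coverA_ok small_valid ⟨j, hj⟩
  have hg : (LabelCover.proj coverA_ok small_valid (LabelCover.gel coverA_ok small_valid j)) =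
      (LabelCover.gen coverA_ok small_valid ⟨j, hj⟩).1 := by rw [LabelCover.gel, dif_pos hj]; rfl
  rw [hg]
  refine Finset.eq_of_subset_of_card_le (fun k hk => ?_)
    (by rw [McLPoint.lineF_card, Finset.card_image_of_injective _ (Equiv.injective _), McLPoint.lineF_card])
  obtain ⟨a, ha, rfl⟩ := Finset.mem_image.mp hk
  have h := List.all_eq_true.mp (List.all_eq_true.mp lines_move j (List.mem_range.mpr hj)) i (List.mem_range.mpr i.2)
  simp only [McLPoint.lineF, Finset.mem_filter, Finset.mem_univ, true_and, List.contains_iff_mem] at ha ⊢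
  have h2 := List.contains_iff_mem.mp (List.all_eq_true.mp h _ ha)
  rwa [hrep i, ← sgen_ap hj a] at h2

theorem compat_mul {p p' : Perm (Fin 275)} {q q' : Perm (Fin 280)} (h : Compat p q) (h' : Compat p' q') :
    Compat (p * p') (q * q') := fun i => by
  rw [Perm.coe_mul, ← Finset.image_image, h' i, h, Perm.mul_apply]

theorem compat_one : Compat 1 1 := fun i => by rw [Perm.coe_one, Finset.image_id]; rfl

theorem compat_val : ∀ (w : List ℕ), (∀ j ∈ w, j < 2) → Compat ((sval w : M) : Perm (Fin 275))
    ((LabelCover.proj coverA_ok small_valid (LabelCover.val coverA_ok small_valid w) : SmallU) : Perm (Fin 280)) := by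
  intro w
  induction w with
  | nil => intro _; exact compat_one
  | cons j w ih =>
    intro hw
    rw [LabelCover.val, map_mul]
    exact compat_mul (ih fun x hx => hw x (List.mem_cons_of_mem _ hx)) (compat_gen (hw j (List.mem_cons_self ..)))

theorem card_SmallU : 3265920 ≤ Nat.card SmallU := by
  obtain ⟨hsub, hc⟩ := table_products (by norm_num) small_table small_valid
  rw [← U43Mult.chain_shape.2.2, ← hc, ← Nat.card_coe_set_eq]
  exact Nat.card_mono (Set.toFinite _) hsub

/-- The pairs of compatible members. -/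
def pairs : Subgroup (MulAction.stabilizer M (0 : Fin 275) × SmallU) where
  carrier := {y | Compat ((y.1 : M) : Perm (Fin 275)) (y.2 : Perm (Fin 280))}
  one_mem' := compat_one
  mul_mem' h h' := compat_mul h h'
  inv_mem' {y} h := fun i => by
    have e := h (((y.2 : Perm (Fin 280))⁻¹) i)
    rw [show (y.2 : Perm (Fin 280)) (((y.2 : Perm (Fin 280))⁻¹) i) = i from Equiv.apply_symm_apply _ i] at e
    show (McLPoint.lineF i).image ⇑(((y.1 : M) : Perm (Fin 275))⁻¹) = McLPoint.lineF (((y.2 : Perm (Fin 280))⁻¹) i)
    rw [← e, Finset.image_image, Perm.inv_def, Equiv.symm_comp_self, Finset.image_id]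

theorem exists_iso : ∃ e : MulAction.stabilizer M (0 : Fin 275) ≃* SmallU,
    ∀ u : MulAction.stabilizer M (0 : Fin 275), Compat ((u : M) : Perm (Fin 275)) (e u : Perm (Fin 280)) := by
  classical
  let f : pairs →* MulAction.stabilizer M (0 : Fin 275) := (MonoidHom.fst _ _).comp pairs.subtype
  let g : pairs →* SmallU := (MonoidHom.snd _ _).comp pairs.subtype
  have finj : Function.Injective f := fun a b e =>
    Subtype.ext (Prod.ext e (Subtype.ext (compat_unique (show Compat ((f a : M) : Perm (Fin 275)) _ from a.2)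
      (e ▸ b.2))))
  have gsurj : Function.Surjective g := by
    rw [← MonoidHom.range_eq_top, eq_top_iff]
    intro q _
    suffices hs : (q : Perm (Fin 280)) ∈ g.range.map (genG 280 (U43Mult.gens.map Prod.fst)).subtype by
      obtain ⟨q', hq', e⟩ := hs
      rwa [← Subtype.ext e]
    refine (Subgroup.closure_le _).mpr ?_ q.2
    rintro x ⟨c, hc, hx⟩
    obtain ⟨j, hj, rfl⟩ := List.getElem_of_mem hc
    have hj2 : j < 2 := coverA_ok.len ▸ hj
    have hr := LabelCover.gen_rep coverA_ok small_valid ⟨j, hj2⟩
    rw [List.getD_eq_getElem _ _ hj] at hr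
    refine ⟨_, ⟨⟨(sgen j, _), compat_gen hj2⟩, rfl⟩, ?_⟩
    show ((LabelCover.proj coverA_ok small_valid (LabelCover.gel coverA_ok small_valid j) : SmallU) : Perm (Fin 280)) = x
    rw [LabelCover.gel, dif_pos hj2]
    exact hr.unique hx
  have hge : Nat.card SmallU ≤ Nat.card pairs := Nat.card_le_card_of_surjective g gsurj
  have hle : Nat.card pairs ≤ 3265920 := card_stab ▸ Nat.card_le_card_of_injective f finj
  have hle' := hge.trans hle
  have cU := card_SmallU
  have gb : Function.Bijective g := gsurj.bijective_of_nat_card_le (hle.trans cU)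
  have fb : Function.Bijective f := finj.bijective_of_nat_card_le (by rw [card_stab]; exact cU.trans hge)
  refine ⟨(MulEquiv.ofBijective f fb).symm.trans (MulEquiv.ofBijective g gb), fun u => ?_⟩
  obtain ⟨y, rfl⟩ := fb.2 u
  rw [MulEquiv.trans_apply, show (MulEquiv.ofBijective f fb).symm (f y) = y from
    (MulEquiv.ofBijective f fb).symm_apply_apply y]
  exact y.2

end CfsgLib.McLMult
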