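/-
A triple cover of McL, transferred from a triple cover of the stabiliser of a point.
-/
import Cfsg.Agent.Lib.McLMult.Stab
import Cfsg.Agent.Lib.TransferExtension

set_option autoImplicit false
set_option maxRecDepth 30000
set_option linter.unusedSectionVars false
set_option linter.style.haveILetI false

namespace CfsgLib.McLMult

open Equiv CfsgPC CfsgLeech.Models CfsgLib.StemSylow
open CfsgLib.U43Mult (SmallU small_valid coverA coverA_ok)

attribute [local irreducible] mclPts mclWords mclCodes mclSlp mclChain trans gWords hWords gCode hCode coverA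
  U43Mult.gens U43Mult.chain McLPoint.lifts McLPoint.lines

/-- The first element. -/
noncomputable def gEl : M := ofCode _ _ pair_ok.1 pair_ok.2.1

/-- The second element. -/
noncomputable def hEl : M := ofCode _ _ pair_ok.2.2.1 pair_ok.2.2.2.1

theorem gEl_ap (i : Fin 275) : ((gEl : M) : Perm (Fin 275)) i = (⟨ap gCode.1 i % 275, Nat.mod_lt _ (by norm_num)⟩ : Fin 275) :=
  Fin.ext (by
    show _ = ap gCode.1 i % 275
    rw [decP_rep pair_ok.1 i]
    exact (Nat.mod_eq_of_lt (Fin.is_lt _)).symm)

theorem gh_comm : gEl * hEl = hEl * gEl := by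
  refine Subtype.ext (Equiv.ext fun i => Fin.ext ?_)
  have h := Nat.eq_of_beq_eq_true (List.all_eq_true.mp pair_ok.2.2.2.2 i (List.mem_range.mpr i.2))
  rw [decP_rep pair_ok.2.2.1 i, decP_rep pair_ok.1, decP_rep pair_ok.1 i, decP_rep pair_ok.2.2.1] at h
  exact h

theorem comp_eq {c ci : ℕ} (hp : isPerm 275 c ci = true) (hs : sift 275 mclChain c = true) {ws : List (List ℕ)}
    (h0 : compOK c ws 0 140 = true) (h1 : compOK c ws 140 275 = true) (x : Fin 275) :
    (∀ j ∈ ws.getD x [], j < 2) ∧
      TransferExt.comp (0 : Fin 275) tr_spec (ofCode c ci hp hs) x = sval (ws.getD x []) := by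
  have key : ∀ a b, compOK c ws a b = true → a ≤ (x : ℕ) → (x : ℕ) < b →
      (∀ j ∈ ws.getD x [], j < 2) ∧ ∀ p ∈ mBases,
        ap (trans.getD (ap c x) (0, 0)).2 (ap c (ap (trans.getD x (0, 0)).1 p)) =
          LabelCover.Data.runPts ucs (ws.getD x []) p := fun a b h h1 h2 => by
    have := List.all_eq_true.mp h ((x : ℕ) - a) (List.mem_range.mpr (by omega))
    simp only [Bool.and_eq_true, Nat.add_sub_cancel' h1, List.all_eq_true, Nat.blt_eq] at this
    exact ⟨this.1, fun p hp => Nat.eq_of_beq_eq_true (this.2 p hp)⟩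
  obtain ⟨hlt, hpts⟩ : (∀ j ∈ ws.getD x [], j < 2) ∧ ∀ p ∈ mBases,
      ap (trans.getD (ap c x) (0, 0)).2 (ap c (ap (trans.getD x (0, 0)).1 p)) =
        LabelCover.Data.runPts ucs (ws.getD x []) p := by
    by_cases hx : (x : ℕ) < 140
    · exact key _ _ h0 (Nat.zero_le _) hx
    · exact key _ _ h1 (by omega) x.2
  refine ⟨hlt, Subtype.ext (Subtype.ext (eq_of_mBases (Subtype.coe_prop _) (Subtype.coe_prop _) fun b hb => Fin.ext ?_))⟩
  rw [sval_ap _ hlt b, ← hpts _ hb, decP_rep (trans_at x).1 b, decP_rep hp, decP_rep hp]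
  refine (rep_inv (by norm_num) (decP_rep (trans_at _).1) (trans_at _).1 _).symm

theorem gWords_spec (x : Fin 275) : (∀ j ∈ gWords.getD x [], j < 2) ∧
    TransferExt.comp (0 : Fin 275) tr_spec gEl x = sval (gWords.getD x []) :=
  comp_eq _ _ gComp0_ok gComp1_ok x

theorem hWords_spec (x : Fin 275) : (∀ j ∈ hWords.getD x [], j < 2) ∧
    TransferExt.comp (0 : Fin 275) tr_spec hEl x = sval (hWords.getD x []) :=
  comp_eq _ _ hComp0_ok hComp1_ok x

theorem val_append (v w : List ℕ) : LabelCover.val coverA_ok small_valid (v ++ w) =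
    LabelCover.val coverA_ok small_valid w * LabelCover.val coverA_ok small_valid v := by
  induction v with
  | nil => exact (mul_one _).symm
  | cons j v ih => rw [List.cons_append, LabelCover.val, LabelCover.val, ih, mul_assoc]

theorem q_three : coverA.q = 3 := by with_unfolding_all rfl

theorem m_pos : 0 < coverA.m := LabelCover.pos coverA_ok

/-- The first object with the label zero. -/
noncomputable def start : LabelCover.Pts coverA := (⟨0, m_pos⟩, 0)

/-- The constant added by an element over the identity. -/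
noncomputable def shift (k : A) : ZMod 3 :=
  ((((k : ↥(genG 280 (U43Mult.gens.map Prod.fst)) × Perm (LabelCover.Pts coverA)).2 start).2).cast : ZMod 3)

theorem shift_mul {k : A} (hk : k ∈ (LabelCover.proj coverA_ok small_valid).ker) (a : A) :
    (((k * a : A) : ↥(genG 280 (U43Mult.gens.map Prod.fst)) × Perm (LabelCover.Pts coverA)).2 start).2 =
      ((a : ↥(genG 280 (U43Mult.gens.map Prod.fst)) × Perm (LabelCover.Pts coverA)).2 start).2 +
      ((k : ↥(genG 280 (U43Mult.gens.map Prod.fst)) × Perm (LabelCover.Pts coverA)).2 start).2 := by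
  obtain ⟨s, hs⟩ := LabelCover.ker_proj coverA_ok small_valid hk
  rw [Subgroup.coe_mul, Prod.snd_mul, Perm.mul_apply, hs, LabelCover.mono_apply, LabelCover.mono_apply]
  show _ + s = _ + ((0 : ZMod coverA.q) + s)
  rw [zero_add]

theorem cast_add3 (a b : ZMod coverA.q) : ((a + b).cast : ZMod 3) = (a.cast : ZMod 3) + (b.cast : ZMod 3) :=
  ZMod.cast_add (by rw [q_three]) a b

theorem run_label (w : List ℕ) (hw : ∀ j ∈ w, j < 2) :
    (((LabelCover.val coverA_ok small_valid w : A) :
      ↥(genG 280 (U43Mult.gens.map Prod.fst)) × Perm (LabelCover.Pts coverA)).2 start).2.cast =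
      ((coverA.run w (0, 0)).2 : ZMod 3) := by
  have e := (LabelCover.run_val coverA_ok small_valid w hw ⟨0, m_pos⟩ 0).2
  rw [Nat.cast_zero] at e
  show ((((LabelCover.val coverA_ok small_valid w : A) :
      ↥(genG 280 (U43Mult.gens.map Prod.fst)) × Perm (LabelCover.Pts coverA)).2 (⟨0, m_pos⟩, 0)).2.cast : ZMod 3) = _
  rw [e]
  exact ZMod.cast_natCast (by rw [q_three]) _

theorem ker_central : (LabelCover.proj coverA_ok small_valid).ker ≤ Subgroup.center A := by
  intro k hk
  refine Subgroup.mem_center_iff.mpr fun x => ?_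
  obtain ⟨s, hs⟩ := LabelCover.ker_proj coverA_ok small_valid hk
  obtain ⟨p, c, e, -, -⟩ := LabelCover.cover_good coverA_ok small_valid x
  have h1 : (k : ↥(genG 280 (U43Mult.gens.map Prod.fst)) × Perm (LabelCover.Pts coverA)).1 = 1 := hk
  refine Subtype.ext (Prod.ext ?_ ?_)
  · rw [Subgroup.coe_mul, Subgroup.coe_mul, Prod.fst_mul, Prod.fst_mul, h1, mul_one, one_mul]
  · rw [Subgroup.coe_mul, Subgroup.coe_mul, Prod.snd_mul, Prod.snd_mul, hs, e, LabelCover.mono_mul,
      LabelCover.mono_mul, mul_one, one_mul]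
    exact congrArg _ (funext fun i => add_comm _ _)

/-- A triple cover. -/
theorem exists_cover : ∃ (E : Type) (_ : Group E) (_ : Finite E) (τ : E →* M),
    Cfsg.IsStemExtension τ ∧ Nat.card τ.ker = 3 := by
  classical
  haveI : NeZero coverA.q := LabelCover.neZero coverA_ok
  haveI : Finite A := inferInstance
  haveI : Fact (Nat.Prime 3) := ⟨Nat.prime_three⟩
  obtain ⟨e, he⟩ := exists_iso
  let pr := LabelCover.proj coverA_ok small_valid
  let π : A →* MulAction.stabilizer M (0 : Fin 275) := e.symm.toMonoidHom.comp pr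
  have hker : ∀ k, k ∈ π.ker ↔ k ∈ pr.ker := fun k => by simp [π, MonoidHom.mem_ker]
  have hval : ∀ w : List ℕ, (∀ j ∈ w, j < 2) → π (LabelCover.val coverA_ok small_valid w) = sval w := fun w hw => by
    refine e.injective ?_
    show e (e.symm _) = _
    rw [e.apply_symm_apply]
    exact Subtype.ext (compat_unique (compat_val w hw) (he _))
  let χ : π.ker →* Multiplicative (ZMod 3) :=
    { toFun := fun k => Multiplicative.ofAdd (shift k.1)
      map_one' := by
        show Multiplicative.ofAdd (((((1 : A) : ↥(genG 280 (U43Mult.gens.map Prod.fst)) ×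
          Perm (LabelCover.Pts coverA)).2 start).2).cast : ZMod 3) = 1
        rw [OneMemClass.coe_one, Prod.snd_one, Perm.one_apply]
        simp [start]
      map_mul' := fun a b => by
        rw [← ofAdd_add]
        refine congrArg Multiplicative.ofAdd ?_
        show ((((a.1 * b.1 : A) : ↥(genG 280 (U43Mult.gens.map Prod.fst)) ×
          Perm (LabelCover.Pts coverA)).2 start).2.cast : ZMod 3) = _
        rw [shift_mul ((hker _).mp a.2), cast_add3, add_comm]
        rfl }
  let v : Fin 275 → A := fun x => LabelCover.val coverA_ok small_valid (gWords.getD x [])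
  let w : Fin 275 → A := fun x => LabelCover.val coverA_ok small_valid (hWords.getD x [])
  have hv : ∀ x, π (v x) = TransferExt.comp (0 : Fin 275) tr_spec gEl x := fun x => by
    rw [(gWords_spec x).2]; exact hval _ (gWords_spec x).1
  have hw : ∀ x, π (w x) = TransferExt.comp (0 : Fin 275) tr_spec hEl x := fun x => by
    rw [(hWords_spec x).2]; exact hval _ (hWords_spec x).1
  let d : Fin 275 → A := fun x => v (hEl • x) * w x * (w (gEl • x) * v x)⁻¹
  have hd : ∀ x, v (hEl • x) * w x = d x * (w (gEl • x) * v x) := fun x => (inv_mul_cancel_right _ _).symm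
  have hdk : ∀ x, d x ∈ π.ker := fun x => by
    rw [MonoidHom.mem_ker, map_mul, map_inv, mul_inv_eq_one, map_mul, map_mul, hv, hw, hw, hv,
      ← TransferExt.comp_mul, ← TransferExt.comp_mul, gh_comm]
  refine TransferExt.exists_stem (0 : Fin 275) (ht := tr_spec) (π := π)
    (e.symm.surjective.comp (LabelCover.proj_surjective coverA_ok small_valid))
    (fun k hk => ker_central ((hker k).mp hk)) χ gEl hEl gh_comm v w d hv hw hd (fun x => ⟨d x, hdk x⟩) (fun x => rfl) ?_
  have hone : ∀ x : Fin 275, χ ⟨d x, hdk x⟩ = Multiplicative.ofAdd ((labAt x : ℕ) : ZMod 3) := by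
    intro x
    refine congrArg Multiplicative.ofAdd ?_
    have hhx : ((hEl • x : Fin 275) : ℕ) = ap hCode.1 x := (decP_rep pair_ok.2.2.1 x).symm
    have hgx : ((gEl • x : Fin 275) : ℕ) = ap gCode.1 x := (decP_rep pair_ok.1 x).symm
    have eA : v (hEl • x) * w x = LabelCover.val coverA_ok small_valid (wordA x) := by
      rw [wordA, val_append, ← hhx]
    have eB : w (gEl • x) * v x = LabelCover.val coverA_ok small_valid (wordB x) := by
      rw [wordB, val_append, ← hgx]
    have lA : ∀ j ∈ wordA x, j < 2 := fun j hj => by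
      rcases List.mem_append.mp hj with h | h
      · exact (hWords_spec x).1 j h
      · exact (gWords_spec (hEl • x)).1 j (by rw [hhx]; exact h)
    have lB : ∀ j ∈ wordB x, j < 2 := fun j hj => by
      rcases List.mem_append.mp hj with h | h
      · exact (gWords_spec x).1 j h
      · exact (hWords_spec (gEl • x)).1 j (by rw [hgx]; exact h)
    have hh := shift_mul ((hker _).mp (hdk x)) (LabelCover.val coverA_ok small_valid (wordB x))
    rw [← eB, ← hd x, eA, eB] at hh
    have h3 := congrArg (fun a : ZMod coverA.q => (a.cast : ZMod 3)) hh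
    simp only [cast_add3, run_label _ lA, run_label _ lB] at h3
    show shift (d x) = _
    rw [shift, labAt, Nat.cast_add, Nat.cast_mul, h3,
      show ((2 : ℕ) : ZMod 3) = -1 from rfl]
    ring
  rw [Finset.prod_congr rfl fun x _ => hone x, ← ofAdd_sum, ← Nat.cast_sum,
    Fin.sum_univ_eq_sum_range (fun k => labAt k) 275]
  intro hz
  have hz' : (((Finset.range 275).sum labAt : ℕ) : ZMod 3) = 0 := Multiplicative.ofAdd.injective hz
  rw [ZMod.natCast_eq_zero_iff] at hz'
  refine labels_ne ?_
  have : ((List.range 275).map labAt).sum = (Finset.range 275).sum labAt := rfl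
  rw [this]
  exact Nat.dvd_iff_mod_eq_zero.mp hz'

end CfsgLib.McLMult
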