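/-
The Schur multiplier of McL has order three.
-/
import Cfsg.Agent.Lib.McLMult.Cover
import Cfsg.Agent.Lib.Leech.SporTransfer
import Cfsg.Agent.Lib.PermChain.Schur

set_option autoImplicit false
set_option maxRecDepth 30000
set_option linter.unusedSectionVars false
set_option linter.style.haveILetI false

namespace CfsgLib.McLMult

open Subgroup Equiv CfsgPC CfsgLeech CfsgLeech.Models CfsgLib.StemSylow

universe u

attribute [local irreducible] mclPts mclWords mclCodes mclSlp mclChain gcTwo tcTwo wordsTwo gcThree tcThree wordsThree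
  gcFive tcFive wordsFive certTwo certThree certFive baseThree cycCodes

theorem facts_base {facts : List (ℕ × List ℕ × List ℕ)} {g t : ℕ → M} (ht : t 0 = 1)
    (hf : ∀ m < facts.length, t (facts.getD m (0, [], [])).1 * Collect.ev g (facts.getD m (0, [], [])).2.1 *
        (t (facts.getD m (0, [], [])).1)⁻¹ = Collect.ev g (facts.getD m (0, [], [])).2.2) (m : ℕ) :
    t (facts.getD m (0, [], [])).1 * Collect.ev g (facts.getD m (0, [], [])).2.1 *
        (t (facts.getD m (0, [], [])).1)⁻¹ = Collect.ev g (facts.getD m (0, [], [])).2.2 * 1 := by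
  rw [mul_one]
  by_cases hm : m < facts.length
  · exact hf m hm
  · rw [List.getD_eq_default _ _ (not_lt.mp hm)]
    simp [Collect.ev_nil, ht]

theorem zz_one (N : ℕ) (f : ℕ → ℤ) : CollectMod.zz (fun _ => (1 : M)) N f = 1 := by
  induction N with
  | zero => rfl
  | succ k ih => simp [CollectMod.zz, ih]

theorem zz2_one (N : ℕ) (f : ℕ) : Collect.zz (fun _ => (1 : M)) N f = 1 := by
  induction N with
  | zero => rfl
  | succ k ih => simp [Collect.zz, ih]

theorem index_eq {P : Subgroup M} {c : ℕ} (hc : 0 < c) (hP : Nat.card P = c) : P.index = 898128000 / c := by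
  have h := P.card_mul_index
  rw [hP, card_M] at h
  rw [← h, Nat.mul_div_cancel_left _ hc]

theorem k_two {Γ : Type u} [Group Γ] [Finite Γ] {σ : Γ →* M} (hσ : Cfsg.IsStemExtension σ) {z : Γ}
    (hz : z ∈ σ.ker) (hzp : z ^ 2 = 1) : z = 1 := by
  obtain ⟨g, t, ht, hf, hle⟩ := exists_elems (by norm_num) mcl_table mcl_model.1 mcl_model.2.1.eq memTwo.1 memTwo.2.1
    memTwo.2.2 bases_lt keysTwo.1
  rw [keysTwo.2.1, keysTwo.2.2.1, ← keysTwo.2.2.2] at hle
  refine Collect.eq_one_of_sq_surjective (fun y hy => Collect.sq_surjective hσ (fun Δ _ _ τ hτ hexp => ?_) hy) 1 z hz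
    (by rwa [pow_one])
  rw [eq_bot_iff]
  intro x hx
  have hupper := Collect.card_lift (C := certTwo) (Gl := g) (Tl := t) (E := fun _ => (1 : M))
    (fun _ _ => Commute.one_left _) (fun _ => one_mul _) ht (fun m => facts_base ht hf m) certTwo_ok
  simp only [zz2_one, mul_one] at hupper
  have hn : (2 : ℕ) ^ certTwo.n = 128 := by rw [keysTwo.2.2.2]; norm_num
  rw [hn] at hupper
  have hindex := Collect.pow_index_eq_one hτ hexp certTwo certTwo_ok g t ht hf (hn.symm ▸ hle) hx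
  rw [index_eq (by norm_num) (le_antisymm hupper hle)] at hindex
  have := pow_gcd_eq_one.mpr ⟨show x ^ 2 = 1 by rw [pow_two]; exact hexp x hx, hindex⟩
  rw [show Nat.gcd 2 (898128000 / 128) = 1 by norm_num, pow_one] at this
  exact mem_bot.mpr this

theorem k_five {Γ : Type u} [Group Γ] [Finite Γ] {σ : Γ →* M} (hσ : Cfsg.IsStemExtension σ) {z : Γ}
    (hz : z ∈ σ.ker) (hzp : z ^ 5 = 1) : z = 1 := by
  obtain ⟨g, t, ht, hf, hle⟩ := exists_elems (by norm_num) mcl_table mcl_model.1 mcl_model.2.1.eq memFive.1 memFive.2.1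
    memFive.2.2 bases_lt keysFive.1
  rw [keysFive.2.1, keysFive.2.2.1, ← keysFive.2.2.2] at hle
  have hp : certFive.p = 5 := by with_unfolding_all rfl
  have hn : certFive.p ^ certFive.n = 125 := by rw [hp, keysFive.2.2.2]; norm_num
  refine CollectP.no_torsion hσ (show Nat.Prime 5 by norm_num) (fun Δ _ _ τ hτ hexp => ?_) hz hzp
  rw [eq_bot_iff]
  intro x hx
  have hupper := CollectP.card_lift certFive (Gl := g) (Tl := t) (E := fun _ => (1 : M))
    (fun _ _ => Commute.one_left _) (fun _ => one_pow _) ht (fun m => facts_base ht hf m) certFive_ok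
  simp only [zz_one, mul_one] at hupper
  rw [hn] at hupper
  have hindex := CollectP.pow_index_eq_one hτ certFive (hp.symm ▸ hexp) certFive_ok g t ht hf (hn.symm ▸ hle) hx
  rw [index_eq (by norm_num) (le_antisymm hupper hle)] at hindex
  have := pow_gcd_eq_one.mpr ⟨hexp x hx, hindex⟩
  rw [show Nat.gcd 5 (898128000 / 125) = 1 by norm_num, pow_one] at this
  exact mem_bot.mpr this

theorem exp_nine {Γ : Type u} [Group Γ] [Finite Γ] {σ : Γ →* M} (hσ : Cfsg.IsStemExtension σ)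
    (hexp : ∀ z ∈ σ.ker, z ^ 9 = 1) : ∃ w ∈ σ.ker, w ^ 3 = 1 ∧ σ.ker ≤ zpowers w := by
  classical
  obtain ⟨g, t, ht, hf, hle⟩ := exists_elems (by norm_num) mcl_table mcl_model.1 mcl_model.2.1.eq memThree.1
    memThree.2.1 memThree.2.2 bases_lt keysThree.1
  rw [keysThree.2.1, keysThree.2.2.1, ← keysThree.2.2.2] at hle
  obtain ⟨hb, hp, hq, hr⟩ : certThree.base = baseThree ∧ baseThree.p = 3 ∧ certThree.q = 9 ∧ certThree.r = 3 :=
    ⟨by with_unfolding_all rfl, by with_unfolding_all rfl, by with_unfolding_all rfl, by with_unfolding_all rfl⟩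
  have hn : baseThree.p ^ baseThree.n = 729 := by rw [hp, keysThree.2.2.2]; norm_num
  obtain ⟨w, hw, hw3, hall⟩ := CollectPOne.pow_index_mem_zpowers hσ certThree (by rw [hq]; exact hexp) certThree_ok g t ht
    (by rw [hb]; exact hf) (by rw [hb, hn]; exact hle)
  rw [hr] at hw3
  rw [hb] at hall
  refine ⟨w, hw, hw3, fun z hz => ?_⟩
  have hupper := CollectPOne.card_lift certThree (Gl := g) (Tl := t) (E := fun _ => (1 : M))
    (fun _ _ => Commute.one_left _) (fun _ => one_pow _) ht (fun m => by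
      unfold CollectP.FactAt CollectP.Cert.fact; rw [hb]; exact facts_base ht hf m) certThree_ok
  simp only [zz_one, mul_one, orderOf_one, hb, hn] at hupper
  have hP : Nat.card (closure (g '' {k | k < baseThree.n})) = 729 :=
    le_antisymm ((Nat.card_mono (Set.toFinite _) (Subgroup.closure_mono Set.subset_union_left)).trans hupper) hle
  have h1 := hall z hz
  rw [index_eq (by norm_num) hP, show 898128000 / 729 = 9 * 136888 + 8 by norm_num, pow_add, pow_mul, hexp z hz,
    one_pow, one_mul] at h1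
  have h2 := zpow_mem h1 (-1)
  rwa [zpow_neg_one, show (z ^ 8)⁻¹ = z from inv_eq_of_mul_eq_one_right (by rw [← pow_succ]; exact hexp z hz)] at h2

theorem ker_small {Γ : Type u} [Group Γ] [Finite Γ] {σ : Γ →* M} (hσ : Cfsg.IsStemExtension σ) :
    ∃ w ∈ σ.ker, w ^ 3 = 1 ∧ σ.ker ≤ zpowers w := by
  classical
  have k2 : ∀ w ∈ σ.ker, w ^ 2 = 1 → w = 1 := fun w hw h2 => k_two hσ hw h2
  have k5 : ∀ w ∈ σ.ker, w ^ 5 = 1 → w = 1 := fun w hw h5 => k_five hσ hw h5
  have kc : ∀ p ∈ [7, 11], ∀ w ∈ σ.ker, w ^ p = 1 → w = 1 := fun p hp w hw hwp => by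
    obtain ⟨hmap, hall⟩ := cyc_ok
    rw [← hmap] at hp
    obtain ⟨d, hd, rfl⟩ := List.mem_map.mp hp
    have hd7 : d.1 = 7 ∨ d.1 = 11 := by
      have : d.1 ∈ cycCodes.map Prod.fst := List.mem_map_of_mem hd
      simpa [hmap] using this
    have h := List.all_eq_true.mp hall d hd
    simp only [Bool.and_eq_true, List.all_eq_true, List.mem_range, List.any_eq_true] at h
    obtain ⟨⟨⟨hp', hs⟩, hpow⟩, b, hb, hne⟩ := h
    have hr := decP_rep hp'
    let g : M := ⟨_, mem_of_sift (by norm_num) mcl_table mcl_model.1 _ _ hr hs⟩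
    refine no_torsion_cyclic (by rcases hd7 with e | e <;> rw [e] <;> norm_num) (g := g)
      (Subtype.ext (Equiv.ext fun i => Fin.ext ?_)) (fun e => ?_) ?_ hσ hw hwp
    · rw [SubgroupClass.coe_pow, ← rep_apN hr, Nat.eq_of_beq_eq_true (hpow i i.2)]
      rfl
    · have e' : decP 275 d.2.1 = 1 := congrArg Subtype.val e
      have := hr ⟨b, bases_lt b hb⟩
      rw [e'] at this
      rw [show ap d.2.1 b = b from this, Nat.beq_refl] at hne
      exact Bool.noConfusion hne
    · rw [card_M]; rcases hd7 with e | e <;> rw [e] <;> norm_num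
  have kill : ∀ {p : ℕ}, (∀ w ∈ σ.ker, w ^ p = 1 → w = 1) → ∀ (k m : ℕ), ∀ z ∈ σ.ker, z ^ (p ^ k * m) = 1 → z ^ m = 1 := by
    intro p h k
    induction k with
    | zero => intro m z _ hz; simpa using hz
    | succ k ih =>
      intro m z hzH hz
      refine h _ (pow_mem hzH m) ?_
      rw [← pow_mul, mul_comm]
      exact ih (p * m) z hzH (by rw [← hz]; congr 1; ring)
  have h729 : ∀ z ∈ σ.ker, z ^ 729 = 1 := by
    intro z hz
    have h0 : z ^ 898128000 = 1 := by
      have := CfsgLib.StSL.pow_index_eq_one_of_cyclic hσ (1 : M) hz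
      rwa [zpowers_one_eq_bot, index_bot, card_M] at this
    refine kill (kc 11 (by simp)) 1 729 z hz (kill (kc 7 (by simp)) 1 _ z hz
      (kill k5 3 _ z hz (kill k2 7 _ z hz ?_)))
    rw [← h0]; norm_num
  obtain ⟨z₀, hz₀, ⟨y₀, hy₀, he₀⟩, hall⟩ := CollectMod.mod_pow hσ 9 3 (fun Δ _ _ τ hτ hexp => exp_nine hτ hexp)
  have hc : ∀ x, x ∈ σ.ker → ∀ g, Commute x g := fun x hx g => (mem_center_iff.mp (hσ.2.1 hx) g).symm
  have hcube : ∀ z ∈ σ.ker, ∃ v ∈ σ.ker, z ^ 3 = v ^ 9 := by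
    intro z hz
    obtain ⟨k, y, hy, rfl⟩ := hall z hz
    refine ⟨y₀ ^ k * y ^ 3, mul_mem (zpow_mem hy₀ k) (pow_mem hy 3), ?_⟩
    rw [(hc _ (zpow_mem hz₀ k) _).mul_pow, (hc _ (zpow_mem hy₀ k) _).mul_pow, ← pow_mul, ← pow_mul]
    congr 1
    rw [← zpow_natCast (z₀ ^ k), ← zpow_natCast (y₀ ^ k), ← _root_.zpow_mul, ← _root_.zpow_mul, mul_comm k, mul_comm k,
      _root_.zpow_mul, _root_.zpow_mul, zpow_natCast, zpow_natCast, he₀]
  have hit : ∀ j : ℕ, ∀ z ∈ σ.ker, ∃ v ∈ σ.ker, z ^ 3 = v ^ 3 ^ (j + 2) := by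
    intro j
    induction j with
    | zero => exact hcube
    | succ j ih =>
      intro z hz
      obtain ⟨v, hv, e⟩ := ih z hz
      obtain ⟨x, hx, e'⟩ := hcube v hv
      refine ⟨x, hx, ?_⟩
      rw [e, show 3 ^ (j + 2) = 3 * 3 ^ (j + 1) by ring, pow_mul, e', ← pow_mul]
      congr 1
      ring
  have h3 : ∀ z ∈ σ.ker, z ^ 3 = 1 := by
    intro z hz
    obtain ⟨v, hv, e⟩ := hit 4 z hz
    rw [e]; exact h729 v hv
  refine ⟨z₀, hz₀, h3 _ hz₀, fun z hz => ?_⟩
  obtain ⟨k, y, hy, rfl⟩ := hall z hz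
  rw [show (9 : ℕ) = 3 * 3 from rfl, pow_mul, h3 y hy, one_pow, mul_one]
  exact zpow_mem (mem_zpowers z₀) k

theorem multiplier : Cfsg.HasCyclicSchurMultiplier ↥Cfsg.Spor.McL 3 := by
  classical
  haveI : Fact (Nat.Prime 3) := ⟨Nat.prime_three⟩
  obtain ⟨e1⟩ := spor_mcl_equiv
  obtain ⟨-, -, ⟨e2⟩⟩ := mcl_model
  let e : ↥Cfsg.Spor.McL ≃* M := e1.trans e2
  have hZ : Nat.card (Multiplicative (ZMod 3)) = 3 := by simp
  refine ⟨?_, fun Γ _ _ σ hσ => ?_⟩
  · obtain ⟨E, _, _, τ, hτ, hk⟩ := exists_cover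
    let τ' : E →* ↥Cfsg.Spor.McL := e.symm.toMonoidHom.comp τ
    have hker : τ'.ker = τ.ker := by ext x; simp [τ', MonoidHom.mem_ker]
    refine ⟨_, inferInstance, inferInstance, τ', ⟨e.symm.surjective.comp hτ.1, hker ▸ hτ.2.1, hker ▸ hτ.2.2⟩,
      ⟨mulEquivOfPrimeCardEq ?_ hZ⟩⟩
    rw [hker, hk]
  · obtain ⟨w, hw, hw3, hle⟩ := ker_small (σ := e.toMonoidHom.comp σ)
      ⟨e.surjective.comp hσ.1, fun x hx => hσ.2.1 (by simpa using hx), fun x hx => hσ.2.2 (by simpa using hx)⟩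
    have hw' : w ∈ σ.ker := by simpa using hw
    have hle' : σ.ker ≤ zpowers w := fun x hx => hle (by simpa using hx)
    by_cases h1 : w = 1
    · refine ⟨1, fun x => ⟨1, ?_⟩⟩
      have := hle' x.2
      rw [h1, Subgroup.zpowers_one_eq_bot, Subgroup.mem_bot] at this
      exact Subtype.ext this.symm
    · have hc : Nat.card σ.ker = 3 := by
        rw [le_antisymm hle' (Subgroup.zpowers_le.mpr hw'), Nat.card_zpowers, orderOf_eq_prime hw3 h1]
      exact ⟨(mulEquivOfPrimeCardEq hZ hc).toMonoidHom, (mulEquivOfPrimeCardEq hZ hc).surjective⟩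

end CfsgLib.McLMult
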